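import Cfsg.Agent.Lib.IterComm.Minimal
import Cfsg.Agent.S0183

/-!
In the setting of a minimal counterexample every element of prime power order has an owner
(the normaliser of its Sylow subgroup). Counting shows that commuting elements have the same
owner, and then the group is a CN-group, which is impossible.
-/

set_option autoImplicit false

namespace Cfsg.Agent.Lib.IterComm

open Subgroup Cfsg
open scoped commutatorElement Pointwise

variable {G Q : Type*} [Group G] [Group Q] {π : G →* Q} {k : ℕ}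

/-- `M` is the normaliser of a nontrivial Sylow subgroup. -/
def IsOwner (M : Subgroup Q) : Prop :=
  ∃ (p : ℕ) (P : Sylow p Q), p.Prime ∧ p ∣ Nat.card Q ∧ M = normalizer ((P : Subgroup Q) : Set Q)

/-- `M` is the normaliser of the Sylow subgroup containing `f`. -/
def Own (f : Q) (M : Subgroup Q) : Prop :=
  f ≠ 1 ∧ ∃ (p : ℕ) (P : Sylow p Q), p.Prime ∧ f ∈ (P : Subgroup Q) ∧
    M = normalizer ((P : Subgroup Q) : Set Q)

lemma Own.mem {f : Q} {M : Subgroup Q} (o : Own f M) : f ∈ M := by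
  obtain ⟨-, p, P, -, hfP, rfl⟩ := o
  exact le_normalizer hfP

lemma Own.conj {f : Q} {M : Subgroup Q} (o : Own f M) (a : Q) :
    Own (a * f * a⁻¹) (M.map (MulAut.conj a).toMonoidHom) := by
  obtain ⟨h1, p, P, hp, hfP, rfl⟩ := o
  have := Fact.mk hp
  refine ⟨fun e => h1 (by simpa [mul_assoc] using congrArg (fun t => a⁻¹ * t * a) e), p, a • P, hp,
    Transfer.mem_smul_sylow.2 (by rw [show a⁻¹ * (a * f * a⁻¹) * a = f by group]; exact hfP), ?_⟩
  rw [map_equiv_normalizer_eq]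
  rfl

/-- The part of an owner that it owns. -/
def ownPart (M : Subgroup Q) : Subgroup Q := (fittingSubgroup M).map M.subtype

lemma ownPart_le (M : Subgroup Q) : ownPart M ≤ M := map_subtype_le _

lemma mem_ownPart {M : Subgroup Q} {x : M} : (x : Q) ∈ ownPart M ↔ x ∈ fittingSubgroup M :=
  mem_map_iff_mem (subtype_injective M)

lemma conj_mem_ownPart {M : Subgroup Q} {a x : Q} (ha : a ∈ M) (hx : x ∈ ownPart M) :
    a * x * a⁻¹ ∈ ownPart M := by
  obtain ⟨x, hx, rfl⟩ := hx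
  exact ⟨_, (inferInstance : (fittingSubgroup M).Normal).conj_mem x hx ⟨a, ha⟩, rfl⟩

variable [Finite Q]

lemma exists_prime_power_mem {g : Q} {S : Subgroup Q} (hg : g ∉ S) :
    ∃ c ∈ zpowers g, c ∉ S ∧ c ≠ 1 ∧ ∃ p, p.Prime ∧ ∃ a, orderOf c = p ^ a := by
  by_contra hcon
  push Not at hcon
  refine hg (GS.le_of_prime_power_elements (H := zpowers g) (fun c hc q b hq hb => ?_)
    (mem_zpowers g))
  by_contra hcS
  exact hcon c hc hcS (fun e => hcS (e ▸ one_mem S)) q hq b hb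

lemma Own.exists_of_pp {f : Q} (hf : f ≠ 1) (hfp : ∃ p, p.Prime ∧ ∃ a, orderOf f = p ^ a) :
    ∃ M, Own f M := by
  obtain ⟨p, hp, a, ha⟩ := hfp
  have := Fact.mk hp
  obtain ⟨P, hP⟩ := (IsPGroup.of_card (p := p) (n := a)
    (by rw [Nat.card_zpowers, ha] : Nat.card (zpowers f) = p ^ a)).exists_le_sylow
  exact ⟨_, hf, p, P, hp, hP (mem_zpowers f), rfl⟩

variable [Finite G] (h : Ctx π k)
include h

lemma Own.isOwner {f : Q} {M : Subgroup Q} (o : Own f M) : IsOwner M := by
  obtain ⟨h1, p, P, hp, hfP, rfl⟩ := o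
  have := Fact.mk hp
  exact ⟨p, P, hp, h.dvd_card_of_mem P h1 hfP, rfl⟩

lemma Own.unique {f : Q} {M M' : Subgroup Q} (o : Own f M) (o' : Own f M') : M = M' := by
  obtain ⟨h1, p, P, hp, hfP, rfl⟩ := o
  obtain ⟨-, q, S, hq, hfS, rfl⟩ := o'
  have := Fact.mk hp; have := Fact.mk hq
  obtain rfl : p = q := by
    by_contra hne
    exact h1 (mem_bot.1 ((IsPGroup.disjoint_of_ne p q hne _ _ P.2 S.2).le_bot ⟨hfP, hfS⟩))
  rw [h.sylow_eq h1 hfP hfS]

lemma Own.centralizer_le {f : Q} {M : Subgroup Q} (o : Own f M) :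
    centralizer ({f} : Set Q) ≤ M := by
  obtain ⟨h1, p, P, hp, hfP, rfl⟩ := o
  have := Fact.mk hp
  exact h.centralizer_le h1 hfP

lemma isOwner_ne_top {M : Subgroup Q} (hM : IsOwner M) : M ≠ ⊤ := by
  obtain ⟨p, P, hp, hd, rfl⟩ := hM
  have := Fact.mk hp
  exact h.normalizer_ne_top (P.ne_bot_of_dvd_card hd) (h.pgroup_ne_top P.2)

lemma isOwner_eq_of_le {M M' : Subgroup Q} (hM : IsOwner M) (hM' : IsOwner M') (hle : M ≤ M') :
    M = M' := by
  have hne := isOwner_ne_top h hM'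
  obtain ⟨p, P, hp, hd, rfl⟩ := hM
  have := Fact.mk hp
  obtain ⟨x, hx, hxP⟩ := h.exists_XS_mem P hd
  exact le_antisymm hle (h.le_normalizer_of_value hx hxP hne (hle (le_normalizer hxP)))

omit [Finite G] h in
lemma sylow_le_ownPart_aux {p : ℕ} [Fact p.Prime] (P : Sylow p Q) :
    (P : Subgroup Q) ≤ ownPart (normalizer ((P : Subgroup Q) : Set Q)) := by
  intro x hx
  set M := normalizer ((P : Subgroup Q) : Set Q)
  have hn : ((P : Subgroup Q).subgroupOf M).Normal := normal_in_normalizer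
  have hp : IsPGroup p ((P : Subgroup Q).subgroupOf M) := P.2.comap_subtype
  refine ⟨⟨x, le_normalizer hx⟩, ?_, rfl⟩
  exact Hall.pCore_le_fittingSubgroup p (Hall.le_pCore hp (mem_subgroupOf.2 hx))

omit [Finite G] h in
lemma Own.mem_ownPart {f : Q} {M : Subgroup Q} (o : Own f M) : f ∈ ownPart M := by
  obtain ⟨-, p, P, hp, hfP, rfl⟩ := o
  have := Fact.mk hp
  exact sylow_le_ownPart_aux P hfP

omit [Finite G] h in
lemma ownPart_nilpotent (M : Subgroup Q) : Group.IsNilpotent (ownPart M) := by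
  have := Hall.fittingSubgroup_isNilpotent (G := M)
  exact Group.nilpotent_of_surjective (M.subtype.subgroupMap (fittingSubgroup M))
    (M.subtype.subgroupMap_surjective _)

/-- Elements of prime power order in a nilpotent subgroup with an owned element have this owner. -/
lemma le_owner_of_nilpotent {L : Subgroup Q} (hL : Group.IsNilpotent L) {c : Q} {M : Subgroup Q}
    (o : Own c M) (hc : c ∈ L) : L ≤ M := by
  refine GS.le_of_prime_power_elements fun t ht q b hq hb => ?_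
  obtain ⟨h1, p, P, hp, hcP, rfl⟩ := id o
  have := Fact.mk hp; have := Fact.mk hq
  obtain ⟨a, ha⟩ := exists_orderOf_eq P.2 hcP
  rcases eq_or_ne q p with rfl | hne
  · obtain ⟨S⟩ : Nonempty (Sylow q L) := inferInstance
    have hS : (S : Subgroup L).Normal :=
      ((Group.isNilpotent_of_finite_tfae (G := L)).out 0 3 rfl rfl).1 hL q ‹_› S
    obtain ⟨R, hR⟩ := (S.2.map L.subtype).exists_le_sylow
    have hcR : c ∈ (R : Subgroup Q) := hR ⟨⟨c, hc⟩,
      GS.mem_of_normal_sylow S hS (b := a) (by rw [Subgroup.orderOf_mk, ha]), rfl⟩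
    have htR : t ∈ (R : Subgroup Q) := hR ⟨⟨t, ht⟩,
      GS.mem_of_normal_sylow S hS (b := b) (by rw [Subgroup.orderOf_mk, hb]), rfl⟩
    rw [h.sylow_eq h1 hcP hcR]
    exact le_normalizer htR
  · refine o.centralizer_le h (mem_centralizer_singleton_iff.2 ?_)
    exact congrArg Subtype.val (GS.commute_of_nilpotent hL hq hp hne (x := (⟨t, ht⟩ : L))
      (y := (⟨c, hc⟩ : L)) (a := b) (b := a) (by rw [Subgroup.orderOf_mk, hb])
      (by rw [Subgroup.orderOf_mk, ha])).eq

lemma own_of_mem_ownPart {M : Subgroup Q} (hM : IsOwner M) {c : Q} (hc : c ∈ ownPart M)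
    (hc1 : c ≠ 1) (hcp : ∃ p, p.Prime ∧ ∃ a, orderOf c = p ^ a) : Own c M := by
  obtain ⟨M', o⟩ := Own.exists_of_pp hc1 hcp
  obtain ⟨p, P, hp, hd, rfl⟩ := id hM
  have := Fact.mk hp
  obtain ⟨z, hz, hzP⟩ := h.exists_XS_mem P hd
  have hzM' : z ∈ M' := le_owner_of_nilpotent h (ownPart_nilpotent _) o hc
    (sylow_le_ownPart_aux P hzP)
  have hle := h.le_normalizer_of_value hz hzP (isOwner_ne_top h (o.isOwner h)) hzM'
  exact isOwner_eq_of_le h (o.isOwner h) hM hle ▸ o

lemma nilpotent_quotient_owner {M : Subgroup Q} (hM : IsOwner M) :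
    Group.IsNilpotent (M ⧸ fittingSubgroup M) :=
  h.nilpotent_quotient_fitting_of_ne_top (isOwner_ne_top h hM)

lemma not_dvd_index_ownPart {M : Subgroup Q} (hM : IsOwner M) {q : ℕ} (hq : q.Prime)
    (hd : q ∣ Nat.card (ownPart M)) : ¬ q ∣ (fittingSubgroup M).index := by
  have := Fact.mk hq
  obtain ⟨c, hc⟩ := exists_prime_orderOf_dvd_card' q hd
  have hc' : orderOf (c : Q) = q := by rw [Subgroup.orderOf_coe, hc]
  have hc1 : (c : Q) ≠ 1 := fun e => by rw [e, orderOf_one] at hc'; exact hq.ne_one hc'.symm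
  obtain ⟨-, p, P, hp, hcP, rfl⟩ := own_of_mem_ownPart h hM c.2 hc1 ⟨q, hq, 1, by rw [hc', pow_one]⟩
  have := Fact.mk hp
  obtain rfl : q = p := by
    obtain ⟨a, ha⟩ := exists_orderOf_eq P.2 hcP
    rw [hc'] at ha
    exact ((Nat.prime_dvd_prime_iff_eq hq hp).1 (hq.dvd_of_dvd_pow (n := a) (ha ▸ dvd_rfl)))
  intro hdd
  refine (P.subtype le_normalizer).not_dvd_index (hdd.trans (index_dvd_of_le fun x hx => ?_))
  exact mem_ownPart.1 (sylow_le_ownPart_aux P hx)

lemma normalizer_owner_le {M : Subgroup Q} (hM : IsOwner M) {a : Q}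
    (ha : M.map (MulAut.conj a).toMonoidHom = M) : a ∈ M := by
  obtain ⟨p, P, hp, hd, rfl⟩ := id hM
  have := Fact.mk hp
  obtain ⟨x, hx, hxP⟩ := h.exists_XS_mem P hd
  have o : Own x _ := ⟨hx.1, p, P, hp, hxP, rfl⟩
  have hm : a * x * a⁻¹ ∈ (P : Subgroup Q) := by
    refine Ctx.mem_sylow_of_mem_normalizer (ha.le ⟨x, le_normalizer hxP, rfl⟩) ?_
    obtain ⟨b, hb⟩ := exists_orderOf_eq P.2 hxP
    exact ⟨b, ((MulAut.conj a).orderOf_eq x).trans hb⟩
  exact (h.normalizer_XS_eq P hd).le (h.mem_normalizer_XS hx hxP hm)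

omit [Finite G] h in
lemma card_mul_le_image {α : Type*} [Finite α] (f : α → Q) (B : Subgroup Q) (s : α → Q)
    (hinj : ∀ x y, f x = f y → s x = s y → x = y) (hB : ∀ x y, f x = f y → (s y)⁻¹ * s x ∈ B) :
    Nat.card α ≤ (Set.range f).ncard * Nat.card B := by
  classical
  let ch : Set.range f → α := fun c => Classical.choose c.2
  have hch : ∀ c : Set.range f, f (ch c) = c := fun c => Classical.choose_spec c.2
  let g : α → Set.range f × B := fun x =>
    (⟨f x, x, rfl⟩, ⟨(s (ch ⟨f x, x, rfl⟩))⁻¹ * s x, hB _ _ (hch ⟨f x, x, rfl⟩).symm⟩)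
  rw [← Nat.card_coe_set_eq, ← Nat.card_prod]
  refine Nat.card_le_card_of_injective g fun x y e => ?_
  have e1 : f x = f y := congrArg (fun q => (q.1 : Q)) e
  have e2 : (⟨f x, x, rfl⟩ : Set.range f) = ⟨f y, y, rfl⟩ := Subtype.ext e1
  have e3 := congrArg (fun q => (q.2 : Q)) e
  simp only [g, e2, mul_right_inj] at e3
  exact hinj x y e1 e3

omit [Finite G] h in
/-- The conjugates of `S`. -/
lemma card_conj_le (S : Set Q) (B : Subgroup Q)
    (hB : ∀ a : Q, ∀ t ∈ S, a * t * a⁻¹ ∈ S → a ∈ B) :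
    Nat.card Q * S.ncard ≤
      (Set.range fun q : Q × S => q.1 * q.2 * q.1⁻¹).ncard * Nat.card B := by
  rw [← Nat.card_coe_set_eq S, ← Nat.card_prod]
  refine card_mul_le_image _ B Prod.fst ?_ ?_
  · rintro ⟨a, s⟩ ⟨b, t⟩ e (rfl : a = b)
    exact Prod.ext rfl (Subtype.ext (by simpa using e))
  · rintro ⟨a, s⟩ ⟨b, t⟩ e
    refine hB _ s s.2 ?_
    have e' : b⁻¹ * a * (s : Q) * (b⁻¹ * a)⁻¹ = t := by
      simpa [mul_assoc] using congrArg (fun w => b⁻¹ * w * b) e
    exact e' ▸ t.2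

omit h [Finite G] in
lemma card_ownPart (M : Subgroup Q) : Nat.card (ownPart M) = Nat.card (fittingSubgroup M) :=
  (Nat.card_congr ((fittingSubgroup M).equivMapOfInjective _ (subtype_injective M)).toEquiv).symm

lemma index_dvd {M M' : Subgroup Q} (hM : IsOwner M) (hne : M ≠ M') {y : Q} (oy : Own y M')
    (hyM : y ∈ M) : (fittingSubgroup M).index ∣ Nat.card ↥(M ⊓ M') := by
  obtain ⟨hy1, q₀, S, hq₀, hyS, rfl⟩ := id oy
  have := Fact.mk hq₀
  obtain ⟨a₀, ha₀⟩ := exists_orderOf_eq S.2 hyS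
  rw [Nat.dvd_iff_prime_pow_dvd_dvd]
  intro q i hq hqi
  rcases Nat.eq_zero_or_pos i with rfl | hi
  · simp
  have := Fact.mk hq
  have hqh : ¬ q ∣ Nat.card (ownPart M) := fun hd =>
    not_dvd_index_ownPart h hM hq hd ((dvd_pow_self q hi.ne').trans hqi)
  have hqM : q ^ i ∣ Nat.card M := hqi.trans (fittingSubgroup M).index_dvd_card
  rcases eq_or_ne q q₀ with rfl | hne₀
  · obtain ⟨R, hR⟩ := (IsPGroup.of_card (p := q) (n := a₀)
      (by rw [Nat.card_zpowers, Subgroup.orderOf_mk, ha₀] :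
        Nat.card (zpowers (⟨y, hyM⟩ : M)) = q ^ a₀)).exists_le_sylow
    obtain ⟨U, hU⟩ := (R.2.map M.subtype).exists_le_sylow
    have hUS : U = S := h.sylow_eq hy1 (hU ⟨_, hR (mem_zpowers _), rfl⟩) hyS
    refine ((hqM |> R.pow_dvd_card_of_pow_dvd_card).trans ?_)
    rw [Nat.card_congr ((R : Subgroup M).equivMapOfInjective _ (subtype_injective M)).toEquiv]
    refine Subgroup.card_dvd_of_le (le_inf (map_subtype_le _) ?_)
    exact hU.trans (hUS ▸ le_normalizer)
  have := nilpotent_quotient_owner h hM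
  set φ := QuotientGroup.mk' (fittingSubgroup M) with hφ
  have hφs : Function.Surjective φ := QuotientGroup.mk'_surjective _
  set y' : M := ⟨y, hyM⟩
  set B := (centralizer ({φ y'} : Set (M ⧸ fittingSubgroup M))).comap φ with hBdef
  set E₀ := (zpowers (φ y')).comap φ with hE₀
  have hE₀B : E₀ ≤ B := fun e he => by
    obtain ⟨j, hj⟩ := mem_zpowers_iff.1 (mem_comap.1 he)
    rw [hBdef, mem_comap, mem_centralizer_singleton_iff, ← hj]
    exact ((Commute.refl (φ y')).zpow_left j).eq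
  have hn : (E₀.subgroupOf B).Normal := by
    rw [normal_subgroupOf_iff hE₀B]
    intro e b he hb
    rw [hE₀, mem_comap, map_mul, map_mul, map_inv]
    obtain ⟨j, hj⟩ := mem_zpowers_iff.1 (mem_comap.1 he)
    have hb' : Commute (φ b) (φ y') := mem_centralizer_singleton_iff.1 (mem_comap.1 hb)
    rw [← hj, (hb'.zpow_right j).eq, mul_inv_cancel_right]
    exact zpow_mem (mem_zpowers _) j
  set y'' : E₀.subgroupOf B := ⟨⟨y', hE₀B (mem_zpowers _)⟩, mem_zpowers _⟩
  obtain ⟨Y, hY⟩ := (IsPGroup.of_card (p := q₀) (n := a₀)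
    (by rw [Nat.card_zpowers, ← Subgroup.orderOf_coe, ← Subgroup.orderOf_coe,
      ← Subgroup.orderOf_coe]; exact ha₀ : Nat.card (zpowers y'') = q₀ ^ a₀)).exists_le_sylow
  set ι := B.subtype.comp (E₀.subgroupOf B).subtype
  set N := normalizer ((Y : Subgroup _).map (E₀.subgroupOf B).subtype : Set B)
  have hfr : N ⊔ E₀.subgroupOf B = ⊤ := Y.normalizer_sup_eq_top
  have hcardB : Nat.card B ∣ Nat.card N * Nat.card (E₀.subgroupOf B) := by
    have := Coprime.card_sup_mul_card_inf (E₀.subgroupOf B) N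
    rw [hfr, card_top] at this
    exact Dvd.intro _ this
  -- a Sylow subgroup for another prime centralises `y` modulo the Fitting subgroup
  obtain ⟨R⟩ : Nonempty (Sylow q M) := inferInstance
  have hRB : (R : Subgroup M) ≤ B := fun r hr => by
    rw [hBdef, mem_comap, mem_centralizer_singleton_iff]
    obtain ⟨b, hb⟩ := orderOf_map_pow (φ := φ) (exists_orderOf_eq R.2 hr)
    obtain ⟨c, hc⟩ := orderOf_map_pow (φ := φ) (x := y') (p := q₀)
      ⟨a₀, by rw [Subgroup.orderOf_mk, ha₀]⟩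
    exact (GS.commute_of_nilpotent ‹_› hq hq₀ hne₀ hb hc).eq
  have hqB : q ^ i ∣ Nat.card B := (R.pow_dvd_card_of_pow_dvd_card hqM).trans (card_dvd_of_le hRB)
  have hqE : ¬ q ∣ Nat.card (E₀.subgroupOf B) := by
    rw [Nat.card_congr (subgroupOfEquivOfLe hE₀B).toEquiv]
    intro hd
    obtain ⟨e, he⟩ := exists_prime_orderOf_dvd_card' q hd
    have h1 : φ (e : M) = 1 := by
      obtain ⟨b, hb⟩ := orderOf_map_pow (φ := φ) (x := (e : M)) (p := q)
        ⟨1, by rw [Subgroup.orderOf_coe, he, pow_one]⟩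
      obtain ⟨c, hc⟩ := orderOf_map_pow (φ := φ) (x := y') (p := q₀)
        ⟨a₀, by rw [Subgroup.orderOf_mk, ha₀]⟩
      have h2 : orderOf (φ (e : M)) ∣ orderOf (φ y') := by
        obtain ⟨j, hj⟩ := mem_zpowers_iff.1 (mem_comap.1 e.2)
        rw [← hj]
        exact orderOf_dvd_of_mem_zpowers (zpow_mem (mem_zpowers _) j)
      rw [hb, hc] at h2
      rcases b with _ | b
      · exact orderOf_eq_one_iff.1 (by simpa using hb)
      · exact absurd ((Nat.prime_dvd_prime_iff_eq hq hq₀).1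
          (hq.dvd_of_dvd_pow ((dvd_pow_self q b.succ_ne_zero).trans h2))) hne₀
    refine hqh (he ▸ ?_)
    rw [← Subgroup.orderOf_coe e, card_ownPart]
    exact Subgroup.orderOf_dvd_natCard _ ((QuotientGroup.eq_one_iff _).1 h1)
  have hqN : q ^ i ∣ Nat.card N :=
    (Nat.Coprime.pow_left i (hq.coprime_iff_not_dvd.2 hqE)).dvd_of_dvd_mul_right
      (hqB.trans hcardB)
  refine hqN.trans ?_
  rw [Nat.card_congr (N.equivMapOfInjective (M.subtype.comp B.subtype)
    ((subtype_injective M).comp (subtype_injective B))).toEquiv]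
  refine card_dvd_of_le ?_
  rintro _ ⟨n, hn', rfl⟩
  refine ⟨(n : M).2, ?_⟩
  set Y' := ((Y : Subgroup _).map (E₀.subgroupOf B).subtype).map (M.subtype.comp B.subtype)
  obtain ⟨U, hU⟩ := (show IsPGroup q₀ Y' from ((Y.2.map _).map _)).exists_le_sylow
  have hyY : y ∈ Y' := ⟨_, ⟨y'', hY (mem_zpowers _), rfl⟩, rfl⟩
  have hUS : U = S := h.sylow_eq hy1 (hU hyY) hyS
  have hn'' : (M.subtype.comp B.subtype) n ∈ normalizer (Y' : Set Q) :=
    le_normalizer_map _ (mem_map_of_mem _ hn')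
  set g := (M.subtype.comp B.subtype) n
  have hgy : g * y * g⁻¹ ∈ Y' := ((mem_normalizer_iff.1 hn'') y).1 hyY
  have e : g • S = S := h.sylow_eq (fun e => hy1 (conj_eq_one_iff.1 e))
    (Transfer.mem_smul_sylow.2 (by rw [show g⁻¹ * (g * y * g⁻¹) * g = y by group]; exact hyS))
    (hUS ▸ hU hgy)
  rwa [Sylow.smul_eq_iff_mem_normalizer] at e

/-- Commuting elements of prime power order have the same owner. -/
theorem own_eq_of_commute {f y : Q} {M₁ M₂ : Subgroup Q} (of : Own f M₁) (oy : Own y M₂)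
    (hc : Commute f y) : M₁ = M₂ := by
  classical
  by_contra hne
  set D := M₁ ⊓ M₂ with hD
  have hfD : f ∈ D := ⟨of.mem, oy.centralizer_le h (mem_centralizer_singleton_iff.2 hc.eq)⟩
  have hyD : y ∈ D := ⟨of.centralizer_le h (mem_centralizer_singleton_iff.2 hc.symm.eq), oy.mem⟩
  have hnil : ∀ M M' : Subgroup Q, IsOwner M → IsOwner M' → M ≠ M' →
      Group.IsNilpotent ↥(M ⊓ M') := by
    intro M M' hM hM' hne'
    have := nilpotent_quotient_owner h hM
    have := nilpotent_quotient_owner h hM'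
    let ψ : ↥(M ⊓ M') →* (M ⧸ fittingSubgroup M) × (M' ⧸ fittingSubgroup M') :=
      MonoidHom.prod ((QuotientGroup.mk' _).comp (inclusion inf_le_left))
        ((QuotientGroup.mk' _).comp (inclusion inf_le_right))
    refine Subgroup.isNilpotent_of_ker_le_center ψ fun x hx => ?_
    have hx1 : (x : Q) ∈ ownPart M :=
      mem_ownPart.2 ((QuotientGroup.eq_one_iff _).1 (congrArg Prod.fst hx))
    have hx2 : (x : Q) ∈ ownPart M' :=
      mem_ownPart.2 ((QuotientGroup.eq_one_iff _).1 (congrArg Prod.snd hx))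
    have : (x : Q) = 1 := by
      by_contra hx'
      obtain ⟨c, hc, -, hc1, hcp⟩ := exists_prime_power_mem (S := (⊥ : Subgroup Q))
        (g := (x : Q)) (by rwa [mem_bot])
      exact hne' ((own_of_mem_ownPart h hM (zpowers_le.2 hx1 hc) hc1 hcp).unique h
        (own_of_mem_ownPart h hM' (zpowers_le.2 hx2 hc) hc1 hcp))
    rw [show x = 1 from Subtype.ext this]
    exact one_mem _
  have hI₁ := of.isOwner h
  have hI₂ := oy.isOwner h
  have hDn := hnil M₁ M₂ hI₁ hI₂ hne
  let I : Finset (Subgroup Q) :=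
    {M ∈ (Set.toFinite (Set.univ : Set (Subgroup Q))).toFinset | ∃ c ∈ D, Own c M}
  have hmemI : ∀ {M}, M ∈ I ↔ ∃ c ∈ D, Own c M := by simp [I]
  have hDle : ∀ M ∈ I, D ≤ M := fun M hM => by
    obtain ⟨c, hc, o⟩ := hmemI.1 hM
    exact le_owner_of_nilpotent h hDn o hc
  have hM₁I : M₁ ∈ I := hmemI.2 ⟨f, hfD, of⟩
  have hM₂I : M₂ ∈ I := hmemI.2 ⟨y, hyD, oy⟩
  have hOwnI : ∀ M ∈ I, IsOwner M := fun M hM => by
    obtain ⟨c, -, o⟩ := hmemI.1 hM; exact o.isOwner h
  have hpair : ∀ M ∈ I, ∀ M' ∈ I, M ≠ M' → M ⊓ M' = D := by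
    intro M hM M' hM' hne'
    have hle : D ≤ M ⊓ M' := le_inf (hDle M hM) (hDle M' hM')
    have hn' := hnil M M' (hOwnI M hM) (hOwnI M' hM') hne'
    exact le_antisymm (le_inf (le_owner_of_nilpotent h hn' of (hle hfD))
      (le_owner_of_nilpotent h hn' oy (hle hyD))) hle
  -- conjugation fixing an owner
  have hfix : ∀ M ∈ I, ∀ M' ∈ I, ∀ a : Q, M.map (MulAut.conj a).toMonoidHom = M' → M = M' := by
    intro M hM M' hM' a e
    obtain ⟨c, hc, o⟩ := hmemI.1 hM
    obtain ⟨-, p, P, hp, hcP, rfl⟩ := id o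
    have := Fact.mk hp
    have e' : M' = normalizer (((a • P : Sylow p Q) : Subgroup Q) : Set Q) := by
      rw [← e, map_equiv_normalizer_eq]; rfl
    have hc' : c ∈ ((a • P : Sylow p Q) : Subgroup Q) :=
      Ctx.mem_sylow_of_mem_normalizer (e' ▸ hDle M' hM' hc) (exists_orderOf_eq P.2 hcP)
    rw [e', ← h.sylow_eq o.1 hcP hc']
  -- elements with two owners
  set T : Set Q := {g | g ∈ D ∧ ∀ M ∈ I, g ∉ ownPart M} with hT
  have htwo : ∀ g ∈ T, ∃ c ∈ zpowers g, ∃ c' ∈ zpowers g, ∃ M ∈ I, ∃ M' ∈ I,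
      Own c M ∧ Own c' M' ∧ M ≠ M' := by
    intro g hg
    obtain ⟨c, hc, -, hc1, hcp⟩ := exists_prime_power_mem (S := (⊥ : Subgroup Q)) (g := g)
      (fun e => hg.2 M₁ hM₁I (by rw [mem_bot.1 e]; exact one_mem _))
    obtain ⟨M, o⟩ := Own.exists_of_pp hc1 hcp
    have hM : M ∈ I := hmemI.2 ⟨c, zpowers_le.2 hg.1 hc, o⟩
    obtain ⟨c', hc', hc'n, hc'1, hc'p⟩ := exists_prime_power_mem (hg.2 M hM)
    obtain ⟨M', o'⟩ := Own.exists_of_pp hc'1 hc'p
    exact ⟨c, hc, c', hc', M, hM, M', hmemI.2 ⟨c', zpowers_le.2 hg.1 hc', o'⟩, o, o',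
      fun e => hc'n (e ▸ o'.mem_ownPart)⟩
  have hstab : ∀ a : Q, ∀ g ∈ T, a * g * a⁻¹ ∈ T → a ∈ D := by
    intro a g hg hg'
    obtain ⟨c, hc, c', hc', M, hM, M', hM', o, o', hne'⟩ := htwo g hg
    have hcD : ∀ z ∈ zpowers g, a * z * a⁻¹ ∈ D := fun z hz => by
      obtain ⟨j, rfl⟩ := mem_zpowers_iff.1 hz
      rw [← conj_zpow]
      exact zpow_mem hg'.1 j
    have e1 := hfix M hM _ (hmemI.2 ⟨_, hcD c hc, o.conj a⟩) a rfl
    have e2 := hfix M' hM' _ (hmemI.2 ⟨_, hcD c' hc', o'.conj a⟩) a rfl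
    exact (hpair M hM M' hM' hne').le ⟨normalizer_owner_le h (hOwnI M hM) e1.symm,
      normalizer_owner_le h (hOwnI M' hM') e2.symm⟩
  set AT := Set.range (fun q : Q × T => q.1 * q.2 * q.1⁻¹) with hAT
  let A : Subgroup Q → Set Q := fun M =>
    Set.range fun q : Q × {x | x ∈ ownPart M ∧ x ≠ 1} => q.1 * q.2 * q.1⁻¹
  set N := Nat.card Q
  set d := Nat.card D
  have hTcard : N * T.ncard ≤ AT.ncard * d := card_conj_le T D hstab
  have hd : d ≤ T.ncard + 1 + ∑ M ∈ I, (Nat.card ↥(D ⊓ ownPart M) - 1) := by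
    have hsub : (D : Set Q) ⊆
        (T ∪ {1}) ∪ ⋃ M ∈ I, ((D ⊓ ownPart M : Subgroup Q) : Set Q) \ {1} := by
      intro g hg
      by_cases h1 : g = 1
      · exact Or.inl (Or.inr h1)
      by_cases hgT : g ∈ T
      · exact Or.inl (Or.inl hgT)
      · simp only [hT, Set.mem_setOf_eq, not_and, not_forall, not_not] at hgT
        obtain ⟨M, hM, hgM⟩ := hgT hg
        exact Or.inr (Set.mem_biUnion hM ⟨⟨hg, hgM⟩, h1⟩)
    have h1 := Set.ncard_le_ncard hsub (Set.toFinite _)
    rw [← Nat.card_coe_set_eq] at h1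
    refine h1.trans ((Set.ncard_union_le _ _).trans (add_le_add ((Set.ncard_union_le _ _).trans
      (by simp)) ((Finset.set_ncard_biUnion_le _ _).trans (Finset.sum_le_sum fun M _ => ?_))))
    rw [Set.ncard_diff_singleton_of_mem (one_mem _), ← Nat.card_coe_set_eq]
    exact le_rfl
  have hA : ∀ M ∈ I, N * (2 * Nat.card ↥(D ⊓ ownPart M) - 1) ≤ 2 * (A M).ncard * d := by
    intro M hM
    have hMo := hOwnI M hM
    set hh := Nat.card (ownPart M) with hhdef
    set w := Nat.card ↥(D ⊓ ownPart M) with hwdef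
    have h1 : N * (hh - 1) ≤ (A M).ncard * Nat.card M := by
      have := card_conj_le {x | x ∈ ownPart M ∧ x ≠ 1} M (fun a t ht ht' => by
        obtain ⟨c, hc, -, hc1, hcp⟩ := exists_prime_power_mem (S := (⊥ : Subgroup Q)) (g := t)
          (by rw [mem_bot]; exact ht.2)
        have o := own_of_mem_ownPart h hMo (zpowers_le.2 ht.1 hc) hc1 hcp
        have hmem : a * c * a⁻¹ ∈ ownPart M := by
          obtain ⟨j, rfl⟩ := mem_zpowers_iff.1 hc
          rw [← conj_zpow]; exact zpow_mem ht'.1 j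
        obtain ⟨p, hp, b, hb⟩ := hcp
        have o' := own_of_mem_ownPart h hMo hmem (fun e => hc1 (conj_eq_one_iff.1 e))
          ⟨p, hp, b, ((MulAut.conj a).orderOf_eq c).trans hb⟩
        exact normalizer_owner_le h hMo ((o.conj a).unique h o'))
      rwa [show {x : Q | x ∈ ownPart M ∧ x ≠ 1} = (ownPart M : Set Q) \ {1} from rfl,
        Set.ncard_diff_singleton_of_mem (one_mem _), ← Nat.card_coe_set_eq] at this
    obtain ⟨M', hM', hne'⟩ : ∃ M' ∈ I, M ≠ M' := by
      by_cases e : M = M₁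
      · exact ⟨M₂, hM₂I, e ▸ hne⟩
      · exact ⟨M₁, hM₁I, e⟩
    obtain ⟨c', hc', o'⟩ := hmemI.1 hM'
    have h2 : (fittingSubgroup M).index ∣ d := by
      have := index_dvd h hMo hne' o' (hDle M hM hc')
      rwa [hpair M hM M' hM' hne'] at this
    have hwd : w ∣ d := Subgroup.card_dvd_of_le inf_le_left
    have hwh : w ∣ hh := Subgroup.card_dvd_of_le inf_le_right
    have hcop : (fittingSubgroup M).index.Coprime w := Nat.coprime_of_dvd fun q hq hd1 hd2 =>
      not_dvd_index_ownPart h hMo hq (hd2.trans hwh) hd1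
    have h3 : Nat.card M * w ≤ hh * d := by
      rw [← (fittingSubgroup M).card_mul_index, ← card_ownPart, ← hhdef, mul_assoc]
      exact Nat.mul_le_mul_left _ (Nat.le_of_dvd Nat.card_pos (hcop.mul_dvd_of_dvd_of_dvd h2 hwd))
    have h4 : 2 * w ≤ hh := by
      obtain ⟨r, hr⟩ := hwh
      rcases r with _ | _ | r
      · simp only [mul_zero] at hr; exact absurd hr Nat.card_pos.ne'
      · exfalso
        have e : D ⊓ ownPart M = ownPart M :=
          eq_of_le_of_card_ge inf_le_right (by simp only [zero_add, mul_one] at hr; omega)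
        obtain ⟨p, P, hp, hdp, hMeq⟩ := id hMo
        have := Fact.mk hp
        obtain ⟨z, hz, hzP⟩ := h.exists_XS_mem P hdp
        have hzM' : z ∈ M' := hDle M' hM'
          (inf_eq_right.1 e (hMeq ▸ sylow_le_ownPart_aux P hzP))
        exact hne' (isOwner_eq_of_le h (hOwnI M' hM') hMo
          (hMeq ▸ h.le_normalizer_of_value hz hzP (isOwner_ne_top h (hOwnI M' hM')) hzM')).symm
      · rw [hr]; nlinarith
    refine Nat.le_of_mul_le_mul_right (c := hh) ?_ Nat.card_pos
    have h5 : (2 * w - 1) * hh ≤ 2 * (hh - 1) * w := by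
      rw [Nat.sub_mul, Nat.mul_sub, Nat.sub_mul, mul_assoc 2 hh w, mul_assoc 2 w hh, mul_comm w hh,
        one_mul, mul_one]
      omega
    calc N * (2 * w - 1) * hh = N * ((2 * w - 1) * hh) := mul_assoc _ _ _
      _ ≤ N * (2 * (hh - 1) * w) := Nat.mul_le_mul_left _ h5
      _ = 2 * (N * (hh - 1)) * w := by ring
      _ ≤ 2 * ((A M).ncard * Nat.card M) * w := by gcongr
      _ = 2 * (A M).ncard * (Nat.card M * w) := by ring
      _ ≤ 2 * (A M).ncard * (hh * d) := Nat.mul_le_mul_left _ h3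
      _ = 2 * (A M).ncard * d * hh := by ring
  have htot : AT.ncard + ∑ M ∈ I, (A M).ncard + 1 ≤ N := by
    have hdis : (I : Set (Subgroup Q)).PairwiseDisjoint A := by
      intro M hM M' hM' hne'
      rw [Function.onFun, Set.disjoint_left]
      rintro _ ⟨⟨a, s, hs, hs1⟩, rfl⟩ ⟨⟨b, t, ht, ht1⟩, e⟩
      simp only at e
      obtain ⟨c, hc, -, hc1, hcp⟩ := exists_prime_power_mem (S := (⊥ : Subgroup Q)) (g := s)
        (by rwa [mem_bot])
      have o := own_of_mem_ownPart h (hOwnI M hM) (zpowers_le.2 hs hc) hc1 hcp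
      have e' : t = b⁻¹ * a * s * (b⁻¹ * a)⁻¹ := by
        simpa [mul_assoc] using congrArg (fun w => b⁻¹ * w * b) e
      obtain ⟨p, hp, k, hk⟩ := hcp
      have o' := own_of_mem_ownPart h (hOwnI M' hM')
        (c := b⁻¹ * a * c * (b⁻¹ * a)⁻¹) (by
          obtain ⟨j, rfl⟩ := mem_zpowers_iff.1 hc
          rw [← conj_zpow, ← e']; exact zpow_mem ht j)
        (fun e => hc1 (conj_eq_one_iff.1 e))
        ⟨p, hp, k, ((MulAut.conj (b⁻¹ * a)).orderOf_eq c).trans hk⟩
      exact hne' (hfix M hM M' hM' _ ((o.conj _).unique h o'))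
    have hdisT : Disjoint AT (⋃ M ∈ I, A M) := by
      rw [Set.disjoint_left]
      rintro _ ⟨⟨a, g, hg⟩, rfl⟩ hu
      simp only [Set.mem_iUnion] at hu
      obtain ⟨M, hM, ⟨b, t, ht, ht1⟩, e⟩ := hu
      simp only at e
      obtain ⟨c, hc, c', hc', M₃, hM₃, M₄, hM₄, o₃, o₄, hne'⟩ := htwo g hg
      have e' : t = b⁻¹ * a * g * (b⁻¹ * a)⁻¹ := by
        simpa [mul_assoc] using congrArg (fun w => b⁻¹ * w * b) e
      have key : ∀ z ∈ zpowers g, ∀ L : Subgroup Q, Own z L →
          L.map (MulAut.conj (b⁻¹ * a)).toMonoidHom = M := by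
        intro z hz L oz
        obtain ⟨z1, p, P, hp, hzP, hL⟩ := id oz
        have := Fact.mk hp
        obtain ⟨k, hk⟩ := exists_orderOf_eq P.2 hzP
        refine (oz.conj _).unique h (own_of_mem_ownPart h (hOwnI M hM) ?_
          (fun e => z1 (conj_eq_one_iff.1 e))
          ⟨p, hp, k, ((MulAut.conj (b⁻¹ * a)).orderOf_eq z).trans hk⟩)
        obtain ⟨j, rfl⟩ := mem_zpowers_iff.1 hz
        rw [← conj_zpow, ← e']; exact zpow_mem ht j
      exact hne' (map_injective (f := (MulAut.conj (b⁻¹ * a)).toMonoidHom)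
        (MulAut.conj (b⁻¹ * a)).injective ((key c hc M₃ o₃).trans (key c' hc' M₄ o₄).symm))
    have hone : AT ∪ (⋃ M ∈ I, A M) ⊆ {(1 : Q)}ᶜ := by
      rintro x (⟨⟨a, g, hg⟩, rfl⟩ | hu) e
      · rw [Set.mem_singleton_iff, conj_eq_one_iff] at e
        exact hg.2 M₁ hM₁I (by rw [show g = 1 from e]; exact one_mem _)
      · simp only [Set.mem_iUnion] at hu
        obtain ⟨M, hM, ⟨b, t, ht, ht1⟩, rfl⟩ := hu
        rw [Set.mem_singleton_iff, conj_eq_one_iff] at e
        exact ht1 e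
    have hs : (⋃ M ∈ I, A M).ncard = ∑ M ∈ I, (A M).ncard := by
      have := I.finite_toSet.ncard_biUnion (fun M _ => Set.toFinite (A M)) hdis
      rw [finsum_mem_coe_finset] at this
      exact this
    have h1 := Set.ncard_le_ncard hone (Set.toFinite _)
    rw [Set.ncard_union_eq hdisT, hs, Set.ncard_compl, Set.ncard_singleton] at h1
    have : 0 < N := Nat.card_pos
    omega
  -- the inequalities are contradictory
  have hI2 : 2 ≤ I.card := Finset.one_lt_card.2 ⟨M₁, hM₁I, M₂, hM₂I, hne⟩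
  have hsum : ∑ M ∈ I, N * (2 * Nat.card ↥(D ⊓ ownPart M) - 1) ≤
      2 * (∑ M ∈ I, (A M).ncard) * d := by
    rw [Finset.mul_sum, Finset.sum_mul]
    exact Finset.sum_le_sum hA
  set W := ∑ M ∈ I, (Nat.card ↥(D ⊓ ownPart M) - 1) with hW
  have hsum2 : ∑ M ∈ I, N * (2 * Nat.card ↥(D ⊓ ownPart M) - 1) = N * (2 * W + I.card) := by
    rw [← Finset.mul_sum, hW]
    congr 1
    rw [Finset.mul_sum, Finset.card_eq_sum_ones, ← Finset.sum_add_distrib]
    refine Finset.sum_congr rfl fun M _ => ?_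
    have : 0 < Nat.card ↥(D ⊓ ownPart M) := Nat.card_pos
    omega
  have hd0 : 0 < d := Nat.card_pos
  have hN0 : 0 < N := Nat.card_pos
  have e1 : N * (2 * d) ≤ N * (2 * T.ncard + (2 * W + I.card)) :=
    Nat.mul_le_mul_left _ (by omega)
  have e2 : N * (2 * T.ncard + (2 * W + I.card)) ≤
      2 * (AT.ncard + ∑ M ∈ I, (A M).ncard) * d := by
    rw [mul_add, ← hsum2, mul_add 2, add_mul]
    refine add_le_add ?_ hsum
    calc N * (2 * T.ncard) = 2 * (N * T.ncard) := by ring
      _ ≤ 2 * (AT.ncard * d) := Nat.mul_le_mul_left _ hTcard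
      _ = 2 * AT.ncard * d := by ring
  have e3 : 2 * (AT.ncard + ∑ M ∈ I, (A M).ncard + 1) * d ≤ 2 * N * d := by gcongr
  nlinarith

lemma centralizer_nilpotent {g : Q} (hg : g ≠ 1) :
    Group.IsNilpotent (centralizer ({g} : Set Q)) := by
  obtain ⟨f, hf, -, hf1, hfp⟩ := exists_prime_power_mem (S := (⊥ : Subgroup Q)) (g := g)
    (by rwa [mem_bot])
  obtain ⟨M, o⟩ := Own.exists_of_pp hf1 hfp
  have hle : centralizer ({g} : Set Q) ≤ ownPart M := by
    refine GS.le_of_prime_power_elements fun c hc q b hq hb => ?_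
    by_cases hc1 : c = 1
    · exact hc1 ▸ one_mem _
    obtain ⟨M', o'⟩ := Own.exists_of_pp hc1 ⟨q, hq, b, hb⟩
    have hcf : Commute c f := by
      obtain ⟨j, rfl⟩ := mem_zpowers_iff.1 hf
      exact (show Commute c g from mem_centralizer_singleton_iff.1 hc).zpow_right j
    exact own_eq_of_commute h o o' hcf.symm ▸ o'.mem_ownPart
  have := ownPart_nilpotent M
  exact Group.nilpotent_of_mulEquiv (subgroupOfEquivOfLe hle)

theorem ctx_false : False := by
  have hCN : IsCNGroup Q := fun g hg => centralizer_nilpotent h hg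
  rcases Nat.even_or_odd (Nat.card Q) with hev | hodd
  swap
  · exact h.ns (S0183.result hodd hCN)
  have := Fact.mk Nat.prime_two
  obtain ⟨P⟩ : Nonempty (Sylow 2 Q) := inferInstance
  have h2 : 2 ∣ Nat.card Q := even_iff_two_dvd.1 hev
  set M := normalizer ((P : Subgroup Q) : Set Q) with hM
  have hMo : IsOwner M := ⟨2, P, Nat.prime_two, h2, rfl⟩
  -- some element outside the owned part
  obtain ⟨m, hm⟩ : ∃ m : M, m ∉ fittingSubgroup M := by
    by_contra hc
    push Not at hc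
    have : Group.IsNilpotent M :=
      Group.isNilpotent_top.1 ((eq_top_iff.2 fun x _ => hc x : fittingSubgroup M = ⊤) ▸ Hall.fittingSubgroup_isNilpotent)
    refine P.ne_bot_of_dvd_card h2 ?_
    have hbot := Ctx.sylow_eq_bot_of_le_commutator (P.subtype (le_normalizer : _ ≤ M)) fun x hx => by
      have hx' := h.le_commutator_XS P hx
      rw [h.normalizer_XS_eq P h2, ← map_subtype_commutator] at hx'
      exact (mem_map_iff_mem (subtype_injective M)).1 hx'
    rw [eq_bot_iff]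
    intro x hx
    have hx' : (⟨x, le_normalizer hx⟩ : M) ∈ (⊥ : Subgroup M) := hbot ▸ mem_subgroupOf.2 hx
    exact congrArg Subtype.val (mem_bot.1 hx')
  obtain ⟨u, hu, hu', hu1, q, hq, b, hb⟩ :=
    exists_prime_power_mem (g := (m : Q)) fun e => hm (mem_ownPart.1 e)
  have huM : u ∈ M := zpowers_le.2 m.2 hu
  obtain ⟨M', o⟩ := Own.exists_of_pp hu1 ⟨q, hq, b, hb⟩
  have hne : M' ≠ M := fun e => hu' (e ▸ o.mem_ownPart)
  have hq2 : q ≠ 2 := fun e => by
    subst e
    exact hu' (sylow_le_ownPart_aux P (Ctx.mem_sylow_of_mem_normalizer huM ⟨b, hb⟩))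
  let V : Subgroup Q :=
    { carrier := {v | v ∈ (P : Subgroup Q) ∧ (∀ g ∈ (P : Subgroup Q), Commute g v) ∧ v ^ 2 = 1}
      one_mem' := ⟨one_mem _, fun g _ => Commute.one_right g, one_pow 2⟩
      mul_mem' := fun {x y} hx hy => ⟨mul_mem hx.1 hy.1,
        fun g hg => (hx.2.1 g hg).mul_right (hy.2.1 g hg),
        by rw [(hy.2.1 x hx.1).mul_pow, hx.2.2, hy.2.2, one_mul]⟩
      inv_mem' := fun {x} hx => ⟨inv_mem hx.1, fun g hg => (hx.2.1 g hg).inv_right,
        by rw [inv_pow, hx.2.2, inv_one]⟩ }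
  have hV : IsPGroup 2 V := P.2.to_le fun v hv => hv.1
  have huV : u ∈ normalizer (V : Set Q) := by
    have hone : ∀ a ∈ M, ∀ v ∈ V, a * v * a⁻¹ ∈ V := by
      intro a ha v hv
      refine ⟨((mem_normalizer_iff.1 ha) v).1 hv.1, fun g hg => ?_,
        by rw [conj_pow, hv.2.2, mul_one, mul_inv_cancel]⟩
      have hg' : a⁻¹ * g * a ∈ (P : Subgroup Q) := by
        simpa using ((mem_normalizer_iff.1 (inv_mem ha)) g).1 hg
      have := hv.2.1 _ hg'
      have e := congrArg (fun w => a * w * a⁻¹) this.eq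
      simpa [mul_assoc, Commute, SemiconjBy] using e
    rw [mem_normalizer_iff]
    exact fun n => ⟨hone u huM n, fun hn => by simpa [mul_assoc] using hone u⁻¹ (inv_mem huM) _ hn⟩
  obtain ⟨z, hz, hzP, hzc⟩ := h.exists_central_XS P h2
  obtain ⟨a, ha⟩ := exists_orderOf_eq P.2 hzP
  have ha0 : a ≠ 0 := fun e => hz.1 (orderOf_eq_one_iff.1 (by rw [ha, e, pow_zero]))
  set j := z ^ 2 ^ (a - 1) with hj
  have hj2 : orderOf j = 2 := by
    rw [hj, orderOf_pow' z (by positivity), ha, Nat.gcd_eq_right (pow_dvd_pow 2 (by omega)),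
      Nat.pow_div (by omega) (by norm_num), show a - (a - 1) = 1 by omega, pow_one]
  have hjV : j ∈ V :=
    ⟨pow_mem hzP _, fun g hg => (hzc g hg).pow_right _, hj2 ▸ pow_orderOf_eq_one j⟩
  have hj1 : j ≠ 1 := fun e => by rw [e, orderOf_one] at hj2; exact absurd hj2 (by norm_num)
  obtain ⟨x, hx, hxV⟩ := h.exists_XS_of_not_commute hV huV
    (by rw [hb]; exact ((Nat.coprime_primes hq Nat.prime_two).2 hq2).pow_left b)
    ⟨j, hjV, fun hc => hne (own_eq_of_commute h ⟨hj1, 2, P, Nat.prime_two, hjV.1, rfl⟩ o hc).symm⟩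
  have hx2 : x * x = 1 := by rw [← sq]; exact hxV.2.2
  have hinv : x⁻¹ = x := inv_eq_of_mul_eq_one_left hx2
  obtain ⟨K, hKn, hKp, hxK⟩ := Involution.baerSuzuki (p := 2) (zpowers x) (fun g => by
    set w := g * x * g⁻¹ with hw
    have hwx : w ∈ XS π k 2 := XS_conj h.surj hx g
    have hw2 : w * w = 1 := by rw [hw]; simp [mul_assoc, ← mul_assoc x x, hx2]
    obtain ⟨L, hL, hxL, hwL⟩ : ∃ L : Subgroup Q, L ≠ ⊤ ∧ x ∈ L ∧ w ∈ L := by
      by_cases hc : Commute w x
      · exact ⟨_, h.centralizer_ne_top hx.1, mem_centralizer_singleton_iff.2 rfl,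
          mem_centralizer_singleton_iff.2 hc.eq⟩
      have hr : x * w ≠ 1 := fun e => hc (by
        rw [show w = x by rw [← inv_eq_of_mul_eq_one_right e, hinv]])
      have hinvert : ∀ s : Q, s * (x * w) * s⁻¹ = (x * w)⁻¹ →
          s ∈ normalizer ((zpowers (x * w) : Subgroup Q) : Set Q) := by
        intro s e
        rw [zpowers_eq_closure]
        refine h.mem_normalizer_of_image fun t ht => ?_
        rw [Set.mem_singleton_iff] at ht
        subst ht
        rw [e]
        exact inv_mem (Subgroup.subset_closure rfl)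
      have hwinv : w⁻¹ = w := inv_eq_of_mul_eq_one_left hw2
      refine ⟨_, h.normalizer_ne_top (zpowers_ne_bot.2 hr) (fun e => h.ns ?_),
        hinvert x ?_, hinvert w ?_⟩
      · have : IsCyclic Q := ⟨x * w, fun t => e.symm.le (mem_top t)⟩
        exact Group.isSolvable_of_comm fun a b =>
          IsMulCommutative.is_comm.comm a b
      · rw [hinv, mul_inv_rev, hwinv, hinv, ← mul_assoc x, hx2, one_mul]
      · rw [hwinv, mul_inv_rev, hwinv, hinv, mul_assoc, mul_assoc x, hw2, mul_one]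
    refine (h.isPGroup_XS (p := 2) hL).to_le (sup_le (zpowers_le.2 ?_) ?_)
    · exact Subgroup.subset_closure ⟨hx, hxL⟩
    · rw [MonoidHom.map_zpowers, zpowers_le]
      exact Subgroup.subset_closure ⟨hwx, hwL⟩)
  rcases h.simple.eq_bot_or_eq_top_of_normal K hKn with e | e
  · exact hx.1 (mem_bot.1 (e ▸ hxK (mem_zpowers x)))
  · exact h.pgroup_ne_top hKp e

omit h [Finite Q] in
/-- The coprime order condition implies solvability. -/
theorem isSolvable_of_cent {G : Type*} [Group G] [Finite G] {k : ℕ} (hC : Cent G k) :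
    Group.IsSolvable G := by
  induction hn : Nat.card G using Nat.strong_induction_on generalizing G with
  | _ n ih => ?_
  have hproper : ∀ L : Subgroup G, L ≠ ⊤ → Group.IsSolvable L := fun L hL =>
    ih _ (hn ▸ lt_of_le_of_ne L.card_le_card_group fun e => hL (eq_top_of_card_eq L e))
      (hC.of_injective (φ := L.subtype) L.subtype_injective) rfl
  by_contra hns
  obtain ⟨R, -, hR⟩ := Finite.exists_le_maximal
    (p := fun R : Subgroup G => R.Normal ∧ Group.IsSolvable R) (a := ⊥) ⟨inferInstance, inferInstance⟩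
  have := hR.prop.1
  have := hR.prop.2
  have hRtop : R ≠ ⊤ := fun e => hns (by
    subst e
    exact Group.isSolvable_of_surjective (f := (⊤ : Subgroup G).subtype) fun x => ⟨⟨x, mem_top x⟩, rfl⟩)
  have : Nontrivial (G ⧸ R) := QuotientGroup.nontrivial_iff.2 hRtop
  have hns' : ¬ Group.IsSolvable (G ⧸ R) := fun hs => hns
    (Group.isSolvable_of_ker_le_range R.subtype (QuotientGroup.mk' R) (by simp))
  refine ctx_false (π := QuotientGroup.mk' R) (k := k)
    ⟨hC, QuotientGroup.mk'_surjective R, fun L hL => hproper _ fun e => hL ?_, ⟨fun N hN => ?_⟩, hns'⟩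
  · rw [← map_comap_eq_self_of_surjective (QuotientGroup.mk'_surjective R) L, e,
      map_top_of_surjective _ (QuotientGroup.mk'_surjective R)]
  · refine or_iff_not_imp_right.2 fun hN' => ?_
    have hne : N.comap (QuotientGroup.mk' R) ≠ ⊤ := fun e => hN' (by
      rw [← map_comap_eq_self_of_surjective (QuotientGroup.mk'_surjective R) N, e,
        map_top_of_surjective _ (QuotientGroup.mk'_surjective R)])
    have hle : R ≤ N.comap (QuotientGroup.mk' R) := fun r hr => by
      rw [mem_comap, show QuotientGroup.mk' R r = 1 from (QuotientGroup.eq_one_iff r).2 hr]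
      exact one_mem N
    have heq := hR.eq_of_ge ⟨hN.comap _, hproper _ hne⟩ hle
    rw [eq_bot_iff]
    intro x hx
    obtain ⟨g, rfl⟩ := QuotientGroup.mk'_surjective R x
    exact mem_bot.2 ((QuotientGroup.eq_one_iff g).2 (heq.le hx))

end Cfsg.Agent.Lib.IterComm
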